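import Groth.Agent.BirCov84.DenseOpen
import Groth.Agent.EGA73.ExtendCodimOne
import Groth.Agent.S0005

/-!
# Finite étale covers of birational proper regular schemes
-/

universe u

open CategoryTheory Limits AlgebraicGeometry TopologicalSpace Groth.Agent

namespace Groth.Agent.BirCov84

theorem two_le_of_not_le_one {a : WithBot ℕ∞} (h : ¬ a ≤ 1) : (2 : WithBot ℕ∞) ≤ a := by
  induction a using WithBot.recBotCoe with
  | bot => exact absurd bot_le h
  | coe b =>
    induction b using ENat.recTopCoe with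
    | top => exact WithBot.coe_le_coe.2 le_top
    | coe n =>
      have : 2 ≤ n := by
        by_contra hn
        apply h
        exact_mod_cast (show n ≤ 1 by omega)
      calc (2 : WithBot ℕ∞) = ((2 : ℕ) : WithBot ℕ∞) := rfl
        _ ≤ ((n : ℕ) : WithBot ℕ∞) := by exact_mod_cast this
        _ = _ := rfl

variable {k : Type u} [Field k] {X Y : Scheme.{u}}

set_option backward.isDefEq.respectTransparency.types false in
/-- Covers transported along a birational map to a proper scheme extend. -/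
theorem exists_extend (f : X ⟶ Spec (CommRingCat.of k)) (g : Y ⟶ Spec (CommRingCat.of k)) [IsProper g]
    [IsNoetherian X] (hX : ∀ x : X, IsRegularLocalRing (X.presheaf.stalk x)) (U : X.Opens)
    (hU : Dense (U : Set X)) (φ : (U : Scheme.{u}) ⟶ Y) (hφ : φ ≫ g = U.ι ≫ f) (C : FEt.Cat Y) :
    ∃ D : FEt.Cat X, Nonempty ((FEt.restrict U.ι).obj D ≅ (FEt.restrict φ).obj C) := by
  have : ∀ x : X, IsDomain (X.presheaf.stalk x) := fun x => have := hX x; CAlg1.isDomain_regular _
  have : ∀ x : X, _root_.IsReduced (X.presheaf.stalk x) := fun x => inferInstance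
  have := isReduced_of_isReduced_stalk X
  obtain ⟨U₁, hUU, φ₁, -, hres, hmem⟩ := EGA73.extend_proper_codim_one g f
    {x : X | ringKrullDim (X.presheaf.stalk x) ≤ 1}
    (fun x hx => ⟨inferInstance, have := hX x; EGA73.valuationRing_of_regular _ hx⟩) U hU φ hφ
  have hcod : ∀ x : X, x ∉ U₁ → (2 : WithBot ℕ∞) ≤ ringKrullDim (X.presheaf.stalk x) :=
    fun x hx => two_le_of_not_le_one fun h => hx (hmem x h)
  have := Groth.Agent.S0005.result X hX U₁ hcod
  obtain ⟨D, ⟨e⟩⟩ := Functor.EssSurj.mem_essImage (F := FEt.restrict U₁.ι) ((FEt.restrict φ₁).obj C)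
  let j := X.homOfLE hUU
  have e₁ : (FEt.restrict U.ι).obj D ≅ (FEt.restrict j).obj ((FEt.restrict U₁.ι).obj D) :=
    ((MorphismProperty.Over.pullbackCongr (P := FEt.prop.{u}) (Q := ⊤) (X.homOfLE_ι hUU).symm).app D) ≪≫
      ((MorphismProperty.Over.pullbackComp (P := FEt.prop.{u}) (Q := ⊤) j U₁.ι).app D)
  have e₂ : (FEt.restrict j).obj ((FEt.restrict φ₁).obj C) ≅ (FEt.restrict φ).obj C :=
    ((MorphismProperty.Over.pullbackComp (P := FEt.prop.{u}) (Q := ⊤) j φ₁).app C).symm ≪≫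
      ((MorphismProperty.Over.pullbackCongr (P := FEt.prop.{u}) (Q := ⊤) hres).app C)
  exact ⟨D, ⟨e₁ ≪≫ (FEt.restrict j).mapIso e ≪≫ e₂⟩⟩

/-- Two fully faithful functors with the same essential image have equivalent sources. -/
theorem exists_equivalence_of_essImage_eq {A B E : Type*} [Category A] [Category B] [Category E]
    (F : A ⥤ E) (G : B ⥤ E) [F.Full] [F.Faithful] [G.Full] [G.Faithful]
    (hFG : ∀ a, G.essImage (F.obj a)) (hGF : ∀ b, F.essImage (G.obj b)) :
    ∃ Φ : A ≌ B, Nonempty (F ≅ Φ.functor ⋙ G) := by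
  let G' : B ≌ G.EssImageSubcategory :=
    G.toEssImage.asEquivalence
  let Φ : A ⥤ B := G.essImage.lift F hFG ⋙ G'.inverse
  let η : Φ ⋙ G ≅ F :=
    Functor.associator _ _ _ ≪≫
      Functor.isoWhiskerLeft _ (Functor.isoWhiskerLeft _ (G.toEssImageCompι).symm) ≪≫
      Functor.isoWhiskerLeft _ ((Functor.associator _ _ _).symm ≪≫
        Functor.isoWhiskerRight G'.counitIso _ ≪≫ Functor.leftUnitor _) ≪≫
      G.essImage.liftCompιIso F hFG
  have : (Φ ⋙ G).Full := Functor.Full.of_iso η.symm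
  have : (Φ ⋙ G).Faithful := Functor.Faithful.of_iso η.symm
  have : Φ.Faithful := Functor.Faithful.of_comp Φ G
  have : Φ.Full := Functor.Full.of_comp_faithful Φ G
  have : Φ.EssSurj := ⟨fun b => by
    obtain ⟨a, ⟨e⟩⟩ := hGF b
    exact ⟨a, ⟨G.preimageIso (η.app a ≪≫ e)⟩⟩⟩
  have : Φ.IsEquivalence := {}
  exact ⟨Φ.asEquivalence, ⟨η.symm⟩⟩

set_option backward.isDefEq.respectTransparency.types false in
/-- Restriction along the identity. -/
noncomputable def restrictId (X : Scheme.{u}) : FEt.restrict (𝟙 X) ≅ 𝟭 (FEt.Cat X) :=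
  NatIso.ofComponents
    (fun A => MorphismProperty.Over.isoMk (@asIso _ _ _ _ (pullback.fst A.hom (𝟙 X)) (MorphismProperty.pullback_fst (P := MorphismProperty.isomorphisms Scheme) A.hom (𝟙 X) (IsIso.id X)))
      (pullback.condition.trans (Category.comp_id _)))
    (fun {A B} φ => MorphismProperty.Over.Hom.ext (pullback.lift_fst _ _ _))

set_option backward.isDefEq.respectTransparency.types false in
theorem birational (f : X ⟶ Spec (CommRingCat.of k)) (g : Y ⟶ Spec (CommRingCat.of k)) [IsProper f] [IsProper g]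
    [IsLocallyNoetherian X] [IsLocallyNoetherian Y]
    (hX : ∀ x : X, IsRegularLocalRing (X.presheaf.stalk x)) (hY : ∀ y : Y, IsRegularLocalRing (Y.presheaf.stalk y))
    (U : X.Opens) (V : Y.Opens) (hU : Dense (U : Set X)) (hV : Dense (V : Set Y))
    (e : (U : Scheme.{u}) ≅ (V : Scheme.{u})) (he : e.hom ≫ V.ι ≫ g = U.ι ≫ f) :
    ∃ Φ : FEt.Cat X ≌ FEt.Cat Y,
      Nonempty (FEt.restrict U.ι ≅ Φ.functor ⋙ FEt.restrict V.ι ⋙ FEt.restrict e.hom) := by
  have : CompactSpace X := QuasiCompact.compactSpace_of_compactSpace f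
  have : IsNoetherian X := {}
  have : CompactSpace Y := QuasiCompact.compactSpace_of_compactSpace g
  have : IsNoetherian Y := {}
  obtain ⟨_, _⟩ := fullyFaithful_dense hX U hU
  obtain ⟨_, _⟩ := fullyFaithful_dense hY V hV
  let Pcomp := fun {A B C : Scheme.{u}} (a : A ⟶ B) (b : B ⟶ C) =>
    MorphismProperty.Over.pullbackComp (P := FEt.prop.{u}) (Q := ⊤) a b
  let εi : FEt.restrict e.hom ⋙ FEt.restrict e.inv ≅ 𝟭 _ :=
    (Pcomp e.inv e.hom).symm ≪≫ MorphismProperty.Over.pullbackCongr e.inv_hom_id ≪≫ restrictId _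
  let εh : FEt.restrict e.inv ⋙ FEt.restrict e.hom ≅ 𝟭 _ :=
    (Pcomp e.hom e.inv).symm ≪≫ MorphismProperty.Over.pullbackCongr e.hom_inv_id ≪≫ restrictId _
  let E : FEt.Cat (V : Scheme.{u}) ≌ FEt.Cat (U : Scheme.{u}) :=
    CategoryTheory.Equivalence.mk (FEt.restrict e.hom) (FEt.restrict e.inv) εi.symm εh
  have : (FEt.restrict e.hom).IsEquivalence := E.isEquivalence_functor
  let G := FEt.restrict V.ι ⋙ FEt.restrict e.hom
  have hGF : ∀ C, (FEt.restrict U.ι).essImage (G.obj C) := fun C => by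
    obtain ⟨D, ⟨d⟩⟩ := exists_extend f g hX U hU (e.hom ≫ V.ι) (by rw [Category.assoc]; exact he) C
    exact ⟨D, ⟨d ≪≫ (Pcomp e.hom V.ι).app C⟩⟩
  have hFG : ∀ D, G.essImage ((FEt.restrict U.ι).obj D) := fun D => by
    obtain ⟨C, ⟨c⟩⟩ := exists_extend g f hY V hV (e.inv ≫ U.ι)
      (by rw [Category.assoc, ← he, e.inv_hom_id_assoc]) D
    refine ⟨C, ⟨(FEt.restrict e.hom).mapIso c ≪≫ ((Pcomp e.hom (e.inv ≫ U.ι)).app D).symm ≪≫
      (MorphismProperty.Over.pullbackCongr ?_).app D⟩⟩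
    rw [e.hom_inv_id_assoc]
  exact exists_equivalence_of_essImage_eq _ G hFG hGF

end Groth.Agent.BirCov84
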