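import Groth.Agent.FEt83.NormalCover
import Groth.Agent.CAlg6.RegularNormal
import Groth.Agent.S0065
import Mathlib.AlgebraicGeometry.Noetherian

/-!
# Restriction of covers of regular schemes to dense opens
-/

universe u

open CategoryTheory Limits AlgebraicGeometry TopologicalSpace Groth.Agent

namespace Groth.Agent.BirCov84

/-- In a Noetherian space whose components are pairwise disjoint a clopen subset of a dense open
extends to a clopen subset. -/
theorem exists_isClopen_extend {T : Type*} [TopologicalSpace T] [NoetherianSpace T]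
    (hdisj : ∀ Z ∈ irreducibleComponents T, ∀ Z' ∈ irreducibleComponents T, ∀ x, x ∈ Z → x ∈ Z' → Z = Z')
    (P C₀ : Set T) (hP : Dense P) (hC₀P : C₀ ⊆ P) (hC₀ : IsOpen C₀) (hC₁ : IsOpen (P \ C₀)) :
    ∃ C : Set T, IsClopen C ∧ C ∩ P = C₀ := by
  classical
  have hopen : ∀ Z ∈ irreducibleComponents T, IsOpen Z := by
    intro Z hZ
    have e : Zᶜ = ⋃ Z' ∈ irreducibleComponents T \ {Z}, Z' := by
      ext x
      simp only [Set.mem_compl_iff, Set.mem_iUnion₂]
      constructor
      · exact fun hx => ⟨_, ⟨irreducibleComponent_mem_irreducibleComponents x,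
          fun h => hx (h ▸ mem_irreducibleComponent)⟩, mem_irreducibleComponent⟩
      · rintro ⟨Z', ⟨hZ', hne⟩, hx⟩ hxZ
        exact hne (hdisj Z' hZ' Z hZ x hx hxZ)
    rw [← isClosed_compl_iff, e]
    exact (NoetherianSpace.finite_irreducibleComponents.subset Set.sdiff_subset).isClosed_biUnion
      fun Z' hZ' => isClosed_of_mem_irreducibleComponents Z' hZ'.1
  have hcov : closure C₀ ∪ closure (P \ C₀) = Set.univ := by
    rw [← closure_union, Set.union_sdiff_cancel hC₀P]
    exact hP.closure_eq
  have hdis : Disjoint (closure C₀) (closure (P \ C₀)) := by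
    rw [Set.disjoint_left]
    intro y hy hy'
    have hZ := irreducibleComponent_mem_irreducibleComponents y
    obtain ⟨a, haZ, haC⟩ := mem_closure_iff.1 hy _ (hopen _ hZ) mem_irreducibleComponent
    obtain ⟨b, hbZ, hbC⟩ := mem_closure_iff.1 hy' _ (hopen _ hZ) mem_irreducibleComponent
    obtain ⟨c, -, hc, hc'⟩ := hZ.1.isPreirreducible C₀ (P \ C₀) hC₀ hC₁ ⟨a, haZ, haC⟩ ⟨b, hbZ, hbC⟩
    exact hc'.2 hc
  refine ⟨closure C₀, ⟨isClosed_closure, ?_⟩, ?_⟩
  · rw [← isClosed_compl_iff]
    have e : (closure C₀)ᶜ = closure (P \ C₀) :=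
      Set.Subset.antisymm (fun x hx => (Set.eq_univ_iff_forall.1 hcov x).resolve_left hx)
        (fun x hx hx' => Set.disjoint_left.1 hdis hx' hx)
    rw [e]
    exact isClosed_closure
  · refine Set.Subset.antisymm (fun x hx => ?_) fun x hx => ⟨subset_closure hx, hC₀P hx⟩
    by_contra h
    exact Set.disjoint_left.1 hdis hx.1 (subset_closure ⟨hx.2, h⟩)

variable {X : Scheme.{u}}

theorem isDomain_stalk_cover [IsLocallyNoetherian X] (hX : ∀ x : X, IsRegularLocalRing (X.presheaf.stalk x))
    (Y : FEt.Cat X) (y : Y.left) : IsDomain (Y.left.presheaf.stalk y) := by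
  let q : Y.left ⟶ X := Y.hom
  have : Etale q := Y.prop.2
  have := (Groth.Agent.S0065.result q y).2 (hX _)
  exact CAlg1.isDomain_regular _

theorem disjoint_components (hX : ∀ x : X, IsDomain (X.presheaf.stalk x)) :
    ∀ Z ∈ irreducibleComponents X, ∀ Z' ∈ irreducibleComponents X, ∀ x, x ∈ Z → x ∈ Z' → Z = Z' :=
  fun Z hZ Z' hZ' x h h' => Props58.eq_of_isDomain_stalk x (hX x) Z hZ Z' hZ' h h'

set_option backward.isDefEq.respectTransparency.types false in
/-- Restriction of finite étale covers of a regular Noetherian scheme to a dense open is fully faithful. -/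
theorem fullyFaithful_dense [IsNoetherian X] (hX : ∀ x : X, IsRegularLocalRing (X.presheaf.stalk x))
    (U : X.Opens) (hU : Dense (U : Set X)) : (FEt.restrict U.ι).Full ∧ (FEt.restrict U.ι).Faithful := by
  have hdense : ∀ Y : FEt.Cat X, Dense (Y.hom ⁻¹' (U : Set X)) := fun Y => by
    have : Etale Y.hom := Y.prop.2
    exact hU.preimage Y.hom.isOpenMap
  have hrange : ∀ Y : FEt.Cat X, Set.range (pullback.fst Y.hom U.ι) = Y.hom ⁻¹' (U : Set X) := fun Y => by
    rw [Scheme.Pullback.range_fst, Scheme.Opens.range_ι]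
  have hm : FEt83.MeetsClopens U.ι := fun Y C hC hne => by
    obtain ⟨y, hyC, hyU⟩ := (hdense Y).inter_open_nonempty C hC.2 hne
    obtain ⟨z, rfl⟩ : y ∈ Set.range (pullback.fst Y.hom U.ι) := by rw [hrange]; exact hyU
    exact ⟨z, hyC⟩
  have hl : FEt83.LiftsClopens U.ι := fun Y C₀ hC₀ => by
    let q : Y.left ⟶ X := Y.hom
    have : IsFinite q := Y.prop.1
    have : CompactSpace Y.left := QuasiCompact.compactSpace_of_compactSpace q
    have : IsLocallyNoetherian Y.left := LocallyOfFiniteType.isLocallyNoetherian q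
    have : IsNoetherian Y.left := {}
    let π := pullback.fst Y.hom U.ι
    have hπ : Topology.IsOpenEmbedding π := π.isOpenEmbedding
    obtain ⟨C, hC, hCP⟩ := exists_isClopen_extend (disjoint_components (isDomain_stalk_cover hX Y))
      (Set.range π) (π '' C₀) (hrange Y ▸ hdense Y) (Set.image_subset_range _ _) (hπ.isOpenMap _ hC₀.2)
      (by
        rw [show Set.range π \ π '' C₀ = π '' C₀ᶜ from by
          rw [Set.compl_eq_univ_sdiff, Set.image_sdiff hπ.injective, Set.image_univ]]
        exact hπ.isOpenMap _ hC₀.compl.2)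
    refine ⟨C, hC, ?_⟩
    rw [← Set.preimage_inter_range, hCP, Set.preimage_image_eq _ hπ.injective]
  exact ⟨FEt83.full_of_lifts hm hl, FEt83.faithful_of_meets hm⟩

end Groth.Agent.BirCov84
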